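import Cfsg.Agent.BH.Pb.Tool
import Cfsg.Agent.TO.Can1
import Cfsg.Agent.H646.SubT
import Cfsg.Agent.H646.PIndex
import Cfsg.Agent.BH.PB
import Cfsg.Agent.BH.Reg.A
import Cfsg.Agent.Characters.CCBasic

/-!
# BH (S4524): the box SPL (helper94)

* `Dt` : an invariant block of a normal subgroup with a central defect group; `Gd` : the Brauer map does not kill it;
* `Dt.rep` : the Frattini argument; `Dt.ext` : invariant members extend over `p`-groups; `Dt.main`;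
* `boxSPL`.
-/

set_option autoImplicit false
set_option linter.unusedSectionVars false

namespace Cfsg.Agent.BH

namespace Pb

open Cfsg Cfsg.Agent.KM.BK Cfsg.Agent.KM.Mu Cfsg.Agent.Characters.Core Cfsg.Agent.Blocks Cfsg.Agent.TID.Red
open Cfsg.Agent.H646.SubT Cfsg.Agent.H649

universe u

/-- an invariant block of a normal subgroup with a central defect group -/
structure Dt (p : ℕ) (M : Ideal AlgInt) {G : Type u} [Group G] (Q C : Subgroup G) (r : Set (IrrCharacter C)) :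
    Prop where
  hM : IsPModular p M
  nQ : Q.Normal
  nC : C.Normal
  le : Q ≤ C
  cen : ∀ c ∈ C, ∀ u ∈ Q, c * u = u * c
  hr : IsPBlock M r
  hd : IsDefectGroup p M r (Q.subgroupOf C)
  st : ∀ g, StabilizesBlock C r g

/-- the Brauer map at `P` does not kill the idempotent of `r` -/
def Gd (M : Ideal AlgInt) {G : Type u} [Group G] (C : Subgroup G) (r : Set (IrrCharacter C)) (P : Subgroup G) : Prop :=
  ∃ y, ¬ MemLocalIdeal M (subgroupBlockCoeff C r y) ∧ ∀ x ∈ P, x * y = y * x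

variable {p : ℕ} [Fact p.Prime] {M : Ideal AlgInt} {G : Type u} [Group G] [Finite G] {Q C L P P' D I Y : Subgroup G}
  {r : Set (IrrCharacter C)}

theorem Gd.sub [M.IsPrime] (h : Gd M C r P) (hL : C ≤ L) : Gd M (C.subgroupOf L) (subE hL r) (P.subgroupOf L) := by
  obtain ⟨y, h1, h2⟩ := h
  have hy : y ∈ C := by
    by_contra hy
    exact h1 (subgroupBlockCoeff_of_notMem C r hy ▸ Local.memLocalIdeal_zero)
  exact ⟨⟨y, hL hy⟩, by rwa [subgroupBlockCoeff_subE], fun x hx => Subtype.ext (h2 x hx)⟩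

theorem Gd.up (hL : C ≤ L) {E : Subgroup L} (h : Gd M (C.subgroupOf L) (subE hL r) E) :
    Gd M C r (E.map L.subtype) := by
  obtain ⟨y, h1, h2⟩ := h
  refine ⟨y, by rwa [subgroupBlockCoeff_subE] at h1, ?_⟩
  rintro _ ⟨x, hx, rfl⟩
  exact congrArg Subtype.val (h2 x hx)

namespace Dt

theorem pg (h : Dt p M Q C r) : IsPGroup p Q :=
  (H592.Defect.isPGroup_of_isDefectGroup h.hd).of_equiv (Subgroup.subgroupOfEquivOfLe h.le)

theorem center (h : Dt p M Q C r) : Q.subgroupOf C ≤ Subgroup.center C := fun u hu =>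
  Subgroup.mem_center_iff.2 fun c => Subtype.ext (h.cen c c.2 u hu)

theorem sub (h : Dt p M Q C r) (hL : C ≤ L) : Dt p M (Q.subgroupOf L) (C.subgroupOf L) (subE hL r) := by
  have := h.nQ
  have := h.nC
  refine ⟨h.hM, inferInstance, inferInstance, Subgroup.comap_mono h.le, fun c hc u hu => Subtype.ext (h.cen c hc u hu),
    isPBlock_subE hL h.hr, ?_, fun g => stabilizesBlock_subE hL (h.st g)⟩
  have h1 := isDefectGroup_blkMap (e := (Subgroup.subgroupOfEquivOfLe hL).symm) h.hd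
  rwa [show (Q.subgroupOf C).map (Subgroup.subgroupOfEquivOfLe hL).symm.toMonoidHom =
    (Q.subgroupOf L).subgroupOf (C.subgroupOf L) from Subgroup.ext fun x => Subgroup.mem_map_equiv] at h1

theorem coeff (h : Dt p M Q C r) (g y : G) : subgroupBlockCoeff C r (g * y * g⁻¹) = subgroupBlockCoeff C r y := by
  have := Local.isPrime_of_isPModular h.hM
  by_cases hy : y ∈ C
  · obtain ⟨hx, h1⟩ := (stabilizesBlock_iff h.hr g).1 (h.st g)
    rw [subgroupBlockCoeff_of_mem C r hy, subgroupBlockCoeff_of_mem C r (h.nC.conj_mem y hy g),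
      ← blockCoeff_blkMap (conjAut C g hx) r ⟨y, hy⟩, h1]
    rfl
  · rw [subgroupBlockCoeff_of_notMem C r hy, subgroupBlockCoeff_of_notMem C r fun h1 => hy (by
      simpa using h.nC.mem_comm h1)]

/-- the block above `r`, for an index which is a power of `p` -/
theorem blk (h : Dt p M Q C r) (hi : ∃ k, C.index = p ^ k) : ∃ B D, IsPBlock M B ∧ IsDefectGroup p M B D ∧
    cov B C = r ∧ C ⊔ D = ⊤ ∧ D ⊓ C = Q ∧
      ∀ P : Subgroup G, IsPGroup p P → (Gd M C r P ↔ ∃ x : G, P.map (MulAut.conj x).toMonoidHom ≤ D) := by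
  have := Local.isPrime_of_isPModular h.hM
  have := h.nC
  let _ := Fintype.ofFinite G
  let _ := Fintype.ofFinite C
  obtain ⟨B, hB, h1, h2⟩ := H646.UCov.exists_block_of_stable C h.hM (H646.UCov.ucov_of_index h.hM C hi) h.hr h.st
  obtain ⟨D, hD⟩ := H592.Defect.exists_defectGroup p h.hM hB
  have h3 : cov B C = r := by
    rw [← h1]
    ext θ
    simp only [cov, Set.mem_ofPred_eq, ov_subtype_iff]
    rfl
  obtain ⟨h4, h5, -⟩ := H646.PIndex.sup_eq_top_and_defect C h.hM hi h.hr h.st hB (h3 ▸ covH_iff.1 (covH_cov hB)) hD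
  obtain ⟨x, hx⟩ := conj_defect h.hM h.hr h.hd h5
  refine ⟨B, D, hB, hD, h3, h4, ?_, fun P hP => ?_⟩
  · rw [PB.map_conj_central h.center] at hx
    rw [← Subgroup.map_subgroupOf_eq_of_le h.le, hx, Subgroup.map_subgroupOf_eq_of_le inf_le_right]
  · rw [← S0959.result p M h.hM B hB D hD P hP]
    constructor
    · rintro ⟨y, h6, h7⟩
      exact ⟨y, Osima.memLocalRing_blockCoeff h.hM hB y, by rwa [h2], y, IsConj.refl y, h7⟩
    · rintro ⟨y, -, h6, c, h7, h8⟩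
      obtain ⟨g, rfl⟩ := isConj_iff.1 h7
      exact ⟨_, by rwa [h.coeff, ← h2], h8⟩

theorem conj0 (h : Dt p M Q C r) (hi : ∃ k, C.index = p ^ k) (hP : IsPGroup p P) (hP' : IsPGroup p P')
    (h1 : Gd M C r P) (h2 : Gd M C r P') (hQ : Q ≤ P') (h3 : C ⊔ P' = ⊤) : ∃ c ∈ C, ∀ x ∈ P, c * x * c⁻¹ ∈ P' := by
  have := h.nC
  obtain ⟨B, D, -, -, -, -, h4, h5⟩ := h.blk hi
  obtain ⟨x, hx⟩ := (h5 P hP).1 h1
  obtain ⟨y, hy⟩ := (h5 P' hP').1 h2
  have h6 : ∀ d ∈ D, y⁻¹ * d * y ∈ P' := fun d hd => by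
    obtain ⟨c, hc, v, hv, h7⟩ := Subgroup.mem_sup_of_normal_left.1 (h3.ge (Subgroup.mem_top (y⁻¹ * d * y)))
    have h8 : y * c * y⁻¹ ∈ D ⊓ C := ⟨by
      rw [show y * c * y⁻¹ = d * (y * v * y⁻¹)⁻¹ by rw [eq_mul_inv_of_mul_eq h7]; group]
      exact D.mul_mem hd (D.inv_mem (hy ⟨v, hv, rfl⟩)), h.nC.conj_mem c hc y⟩
    rw [h4] at h8
    rw [← h7]
    exact P'.mul_mem (hQ (by simpa using h.nQ.mem_comm h8)) hv
  obtain ⟨v, hv, c, hc, h7⟩ :=
    Subgroup.mem_sup_of_normal_right.1 ((sup_comm C P' ▸ h3).ge (Subgroup.mem_top (y⁻¹ * x)))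
  refine ⟨c, hc, fun z hz => ?_⟩
  rw [show c * z * c⁻¹ = v⁻¹ * (y⁻¹ * (x * z * x⁻¹) * y) * v by rw [eq_inv_mul_of_mul_eq h7]; group]
  exact P'.mul_mem (P'.mul_mem (P'.inv_mem hv) (h6 _ (hx ⟨z, hz, rfl⟩))) hv

theorem conj (h : Dt p M Q C r) (hP : IsPGroup p P) (hP' : IsPGroup p P') (h1 : Gd M C r P) (h2 : Gd M C r P')
    (hQ : Q ≤ P') (h3 : P ≤ C ⊔ P') : ∃ c ∈ C, ∀ x ∈ P, c * x * c⁻¹ ∈ P' := by
  have := Local.isPrime_of_isPModular h.hM
  have := h.nC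
  obtain ⟨n, hn⟩ := IsPGroup.iff_card.1 hP'
  obtain ⟨k, -, hk⟩ := (Nat.dvd_prime_pow Fact.out).1 (hn ▸ Subgroup.relIndex_dvd_card C P')
  obtain ⟨c, hc, h4⟩ := (h.sub (L := C ⊔ P') le_sup_left).conj0 ⟨k, (Subgroup.relIndex_sup_left P' C).trans hk⟩
    hP.comap_subtype hP'.comap_subtype (h1.sub _) (h2.sub _) (Subgroup.comap_mono hQ)
    ((Subgroup.subgroupOf_sup le_sup_left le_sup_right).symm.trans (Subgroup.subgroupOf_self _))
  exact ⟨c, hc, fun x hx => h4 ⟨x, h3 hx⟩ hx⟩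

/-- the Frattini argument -/
theorem rep (h : Dt p M Q C r) (hD : IsPGroup p D) (h1 : Gd M C r D) (h2 : D ⊓ C = Q) (t : G) :
    haveI := h.nC
    ∃ s : G, (s : G ⧸ C) = t ∧ ∀ d ∈ D, ((d * t * d⁻¹ : G) : G ⧸ C) = t → s⁻¹ * (d * s * d⁻¹) ∈ Q := by
  have := h.nC
  obtain ⟨y, h3, h4⟩ := h1
  let P' := D ⊓ (Subgroup.centralizer {(t : G ⧸ C)}).comap (QuotientGroup.mk' C)
  have h5 : ∀ d ∈ P', (d : G ⧸ C) * t = t * d := fun d hd => Subgroup.mem_centralizer_singleton_iff.1 hd.2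
  obtain ⟨c, hc, h6⟩ := h.conj (P := P'.map (MulAut.conj t⁻¹).toMonoidHom) (P' := P') ((hD.to_le inf_le_left).map _)
    (hD.to_le inf_le_left) ⟨t⁻¹ * y * t⁻¹⁻¹, by rwa [h.coeff], by
      rintro _ ⟨x, hx, rfl⟩
      exact (map_mul (MulAut.conj t⁻¹) x y).symm.trans ((congrArg _ (h4 x hx.1)).trans (map_mul _ _ _))⟩
    ⟨y, h3, fun x hx => h4 x hx.1⟩ (fun u hu => ⟨(h2.ge hu).1, Subgroup.mem_centralizer_singleton_iff.2 (by
      rw [QuotientGroup.mk'_apply, (QuotientGroup.eq_one_iff u).2 (h.le hu), one_mul, mul_one])⟩) (by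
      rintro _ ⟨x, hx, rfl⟩
      refine Subgroup.mem_sup_of_normal_left.2 ⟨t⁻¹ * x * t * x⁻¹, (QuotientGroup.eq_one_iff _).1 ?_, x, hx, ?_⟩
      · simp only [QuotientGroup.mk_mul, QuotientGroup.mk_inv]
        rw [mul_assoc _ (x : G ⧸ C), h5 x hx]
        group
      · change _ = t⁻¹ * x * t⁻¹⁻¹
        group)
  have h7 : ((t * c⁻¹ : G) : G ⧸ C) = t := by
    rw [QuotientGroup.mk_mul, (QuotientGroup.eq_one_iff _).2 (C.inv_mem hc), mul_one]
  refine ⟨t * c⁻¹, h7, fun d hd h8 => h2.le ⟨?_, ?_⟩⟩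
  · have h9 := h6 _ ⟨d, ⟨hd, Subgroup.mem_centralizer_singleton_iff.2 (mul_inv_eq_iff_eq_mul.1 h8)⟩, rfl⟩
    rw [show (t * c⁻¹)⁻¹ * (d * (t * c⁻¹) * d⁻¹) = c * (t⁻¹ * d * t⁻¹⁻¹) * c⁻¹ * d⁻¹ by group]
    exact D.mul_mem h9.1 (D.inv_mem hd)
  · refine QuotientGroup.eq.1 (h7.trans (h8.symm.trans ?_))
    exact congrArg (fun z : G ⧸ C => (d : G ⧸ C) * z * (d⁻¹ : G)) h7.symm

/-- the members of `r` have the same degree -/
theorem deg (h : Dt p M Q C r) {ξ ξ' : IrrCharacter C} (h1 : ξ ∈ r) (h2 : ξ' ∈ r) :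
    (ξ : C → ℂ) 1 = (ξ' : C → ℂ) 1 := by
  have hp := H592.Defect.isPGroup_of_isDefectGroup h.hd
  have hG : Q.subgroupOf C ⊔ Subgroup.centralizer ((Q.subgroupOf C : Subgroup C) : Set C) = ⊤ := by
    rw [Subgroup.centralizer_eq_top_iff_subset.2 h.center, sup_top_eq]
  obtain ⟨χ, ⟨hχ, hχD⟩, -⟩ := (S0968.result p M h.hM _ hp hG r h.hr h.hd).1
  have key : ∀ ξ ∈ r, (ξ : C → ℂ) 1 = (χ : C → ℂ) 1 := fun ξ h1 => by
    obtain ⟨ζ, h3, -⟩ := ((S4714.result p M h.hM _ hp hG r h.hr h.hd χ hχ hχD).1 ξ).1 h1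
    have h4 := h3 1 1 not_dvd_one (Commute.one_right _)
    rw [mul_one, Characters.CCBasic.irr_apply_one_of_comm
      (fun a b => Subtype.ext (Subgroup.mem_center_iff.1 (h.center b.2) a)) ζ.2, one_mul] at h4
    exact h4
  rw [key ξ h1, key ξ' h2]

/-- the central character on `Q` -/
theorem exists_om (h : Dt p M Q C r) (ξ : IrrCharacter C) : ∃ μ : Q →* ℂˣ,
    ∀ u : Q, (ξ : C → ℂ) ⟨u, h.le u.2⟩ = (ξ : C → ℂ) 1 * μ u :=
  ⟨(Pb.cen ξ h.center).comp (Subgroup.subgroupOfEquivOfLe h.le).symm.toMonoidHom, fun u =>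
    cen_spec ξ h.center ⟨⟨u, h.le u.2⟩, u.2⟩⟩

/-- characters of small degree restrict irreducibly -/
theorem res (h : Dt p M Q C r) (hi : ∃ k, C.index = p ^ k) {B : Set (IrrCharacter G)} (hc : cov B C = r)
    {χ : IrrCharacter G} (hχ : χ ∈ B) (h1 : nu p χ + (Nat.card Q).factorization p ≤ (Nat.card C).factorization p) :
    ∃ ξ ∈ r, ∀ c : C, (χ : G → ℂ) c = (ξ : C → ℂ) c := by
  have := h.nC
  let _ := Fintype.ofFinite G
  let _ := Fintype.ofFinite C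
  obtain ⟨ξ, hξ⟩ := exists_ov C.subtype χ.2
  have h2 : ξ ∈ r := hc ▸ ⟨χ, hχ, hξ⟩
  rw [ov_subtype_iff] at hξ
  refine ⟨ξ, h2, congrFun (H595.Count.eq_of_degree (isCharacter_comp C.subtype (isIrr_isCharacter χ.2)) ξ.2 hξ ?_)⟩
  obtain ⟨⟨m, hm⟩, h3⟩ := S0887.result C χ χ.2 ξ ξ.2 hξ _ _ (Basic.irr_one_eq_charDegree χ.2)
    (Basic.irr_one_eq_charDegree ξ.2)
  obtain ⟨k, hk⟩ := hi
  rw [hm, Nat.mul_div_cancel_left _ (Basic.charDegree_pos ξ.2), hk] at h3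
  obtain ⟨j, -, rfl⟩ := (Nat.dvd_prime_pow Fact.out).1 h3
  have h4 := fac_mul (p := p) hm.symm (Basic.charDegree_pos χ.2).ne'
  have h5 := H592.Defect.le_degree_add p h.hM h.hr h.hd h2
  rw [(Fact.out : p.Prime).factorization_pow, Finsupp.single_eq_same] at h4
  rw [card_sub h.le] at h5
  unfold nu at h1
  rw [show j = 0 by omega, pow_zero, mul_one] at hm
  rw [Basic.irr_one_eq_charDegree ξ.2, ← hm]
  exact (Basic.irr_one_eq_charDegree χ.2 :)

/-- **invariant members of `r` extend over `p`-groups** -/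
theorem ext (h : Dt p M Q C r) [C.Normal] [I.Normal] (hi : ¬ p ∣ C.relIndex I)
    (hz : ∀ u ∈ Q, (∀ t ∈ I, t * u = u * t) → u = 1) (hY : C ≤ Y) (hk : ∃ k, C.relIndex Y = p ^ k)
    {ξ : IrrCharacter C} (hξ : ξ ∈ r) (hv : ∀ y ∈ Y, ∀ c, (ξ : C → ℂ) (MulAut.conjNormal y c) = (ξ : C → ℂ) c) :
    ∃ ψ : IrrCharacter Y, ∀ c : C, (ψ : Y → ℂ) ⟨c, hY c.2⟩ = (ξ : C → ℂ) c := by
  have := h.nQ
  have h' := h.sub hY
  obtain ⟨B, E, hB, hE, h1, h2, h3, h4⟩ := h'.blk hk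
  have hp := H592.Defect.isPGroup_of_isDefectGroup hE
  have h5 : E.map Y.subtype ⊓ C = Q := by
    rw [← Subgroup.map_subgroupOf_eq_of_le (h.le.trans hY), ← h3, Subgroup.map_inf_eq _ _ _ Y.subtype_injective,
      Subgroup.map_subgroupOf_eq_of_le hY]
  obtain ⟨χ, hχ, -, h6⟩ := H592.Defect.exists_height_zero p h.hM hB
  have h7 : nu p χ + (Nat.card (Q.subgroupOf Y)).factorization p ≤ (Nat.card (C.subgroupOf Y)).factorization p := by
    have a1 := H592.Defect.factorization_card_defect p h.hM hB hE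
    have a2 := fac_mul (p := p) (card_inf_mul E (C.subgroupOf Y)) Nat.card_pos.ne'
    have a3 := fac_mul (p := p) (C.subgroupOf Y).card_mul_index Nat.card_pos.ne'
    have a4 := nu_le (p := p) χ
    rw [h3, ← Subgroup.relIndex_sup_left E, h2, Subgroup.relIndex_top_right] at a2
    unfold nu at a4 ⊢
    omega
  have res' : ∀ χ' ∈ B, (χ' : Y → ℂ) 1 = (χ : Y → ℂ) 1 → ∃ ξ' ∈ r, ∀ c : C,
      (χ' : Y → ℂ) ⟨c, hY c.2⟩ = (ξ' : C → ℂ) c := fun χ' hχ' h8 => by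
    obtain ⟨_, ⟨ξ', h9, rfl⟩, h10⟩ := h'.res hk h1 hχ' (by unfold nu charDegree at h7 ⊢; rwa [h8])
    exact ⟨ξ', h9, fun c => h10 ⟨⟨c, hY c.2⟩, c.2⟩⟩
  obtain ⟨ξ₀, h8, h9⟩ := res' χ hχ rfl
  obtain ⟨μ, hμ⟩ := h.exists_om ξ
  obtain ⟨μ₀, hμ₀⟩ := h.exists_om ξ₀
  have h10 : ∀ y ∈ Y, ∀ u, (μ * μ₀⁻¹) (MulAut.conjNormal y u) = (μ * μ₀⁻¹) u := fun y hy u => by
    have a1 : μ (MulAut.conjNormal y u) = μ u := Units.ext (mul_left_cancel₀ (isIrr_apply_one_ne_zero ξ.2)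
      ((hμ _).symm.trans ((hv y hy ⟨u, h.le u.2⟩).trans (hμ u))))
    have a2 : μ₀ (MulAut.conjNormal y u) = μ₀ u := Units.ext (mul_left_cancel₀ (isIrr_apply_one_ne_zero ξ₀.2) (by
      rw [← hμ₀, ← hμ₀, ← h9, ← h9]
      exact isIrr_isClassFunction χ.2 ⟨u, hY (h.le u.2)⟩ ⟨y, hy⟩))
    rw [MonoidHom.mul_apply, MonoidHom.mul_apply, MonoidHom.inv_apply, MonoidHom.inv_apply, a1, a2]
  obtain ⟨l, hl⟩ := exists_lin h.pg (h5.ge.trans inf_le_left) h.le h.cen hi hz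
    (h.rep (hp.map _) (Gd.up hY ((h4 E hp).2 ⟨1, (Basic.map_conj_one E).le⟩)) h5) (μ * μ₀⁻¹)
    fun d hd => h10 d (Subgroup.map_subtype_le E hd)
  obtain ⟨χ', h11, h12, h13⟩ := exists_twist' h.hM hB hE (l.comp (Y.subtype.subgroupMap E))
    (h3.ge.trans inf_le_left) (fun g u hu =>
      (hl (MulAut.conjNormal (g : G) ⟨u, hu⟩)).trans ((h10 g g.2 _).trans (hl ⟨u, hu⟩).symm)) hχ
  obtain ⟨ξ', h14, h15⟩ := res' χ' h11 h12
  refine ⟨χ', fun c => (h15 c).trans (congrFun (congrArg _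
    (eq_of_central_defect h.hM h.hr h.hd h.center h14 hξ fun u hu => ?_)) c)⟩
  have h16 := h13 ⟨u, hY u.2⟩ hu
  rw [show (l.comp (Y.subtype.subgroupMap E)) _ = _ from hl ⟨u, hu⟩, h15, h9, hμ₀ ⟨u, hu⟩, h.deg h8 hξ] at h16
  rw [h16, hμ ⟨u, hu⟩, MonoidHom.mul_apply, MonoidHom.inv_apply, Units.val_mul, Units.val_inv_eq_inv_val]
  field_simp

/-- **the splitting** -/
theorem main (h : Dt p M Q C r) [I.Normal] (hCI : C ≤ I) (hi : ¬ p ∣ C.relIndex I)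
    (hz : ∀ u ∈ Q, (∀ t ∈ I, t * u = u * t) → u = 1) (hk : ∃ k, I.index = p ^ k) (η : IrrCharacter I)
    (hη : ∀ g n, (η : I → ℂ) (MulAut.conjNormal g n) = (η : I → ℂ) n) {ξ : IrrCharacter C} (hξ : ξ ∈ r)
    (ho : Ov (Subgroup.inclusion hCI) (η : I → ℂ) (ξ : C → ℂ)) :
    ∃ χ : IrrCharacter G, ∀ n : I, (χ : G → ℂ) n = (η : I → ℂ) n := by
  have := h.nC
  let _ := Fintype.ofFinite G
  let _ := Fintype.ofFinite I
  let _ := Fintype.ofFinite C
  let T := H692.Cliff.stab C (ξ : C → ℂ)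
  obtain ⟨S⟩ : Nonempty (Sylow p T) := inferInstance
  let P := (S : Subgroup T).map T.subtype
  have hP : IsPGroup p P := S.2.map _
  obtain ⟨n, hn⟩ := IsPGroup.iff_card.1 hP
  obtain ⟨j, -, hj⟩ := (Nat.dvd_prime_pow Fact.out).1 (hn ▸ Subgroup.relIndex_dvd_card C P)
  obtain ⟨ψ, hψ⟩ := h.ext hi hz (Y := C ⊔ P) le_sup_left ⟨j, (Subgroup.relIndex_sup_left P C).trans hj⟩ hξ
    (sup_le (H692.Cliff.le_stab (isIrr_isClassFunction ξ.2)) (Subgroup.map_subtype_le _) : C ⊔ P ≤ T)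
  refine ext_of_compl hCI le_sup_left (fun x hx => ?_) (eq_top_iff.2 fun g _ => ?_) hi hk η hη ξ ho ψ hψ
  · obtain ⟨c, hc, s, hs, rfl⟩ := Subgroup.mem_sup_of_normal_left.1 hx.2
    obtain ⟨m, hm⟩ := IsPGroup.iff_orderOf.1 hP ⟨s, hs⟩
    obtain ⟨k, hk⟩ := exists_pow_eq_self_of_coprime (x := s) (n := C.relIndex I) (by
      rw [← Subgroup.orderOf_mk s hs, hm]
      exact Nat.Coprime.pow_right m ((Nat.Prime.coprime_iff_not_dvd Fact.out).2 hi).symm)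
    exact C.mul_mem hc (hk ▸ C.pow_mem
      ((C.subgroupOf I).pow_index_mem ⟨s, (I.mul_mem_cancel_left (hCI hc)).1 hx.1⟩) k)
  · rw [ov_inclusion_iff] at ho
    obtain ⟨t, ht, h1⟩ := H591.Reynolds.over_conj hCI η.2 ho (θ' := Covering.conjIrr C g ξ) (by
      rw [← Characters.Clifford.classInner_comp_mulEquiv (MulAut.conjNormal g)] at ho
      exact fun h1 => ho ((congrArg (classInner · _) (funext fun c : C => hη g ⟨c, hCI c.2⟩)).trans h1))
    have h2 : g * t⁻¹ ∈ T := fun c => by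
      have h3 := congrFun (congrArg Subtype.val h1) (MulAut.conjNormal t⁻¹ c)
      rw [Covering.conjIrr_apply, Covering.conjIrr_apply, ← MulAut.mul_apply, ← MulAut.mul_apply, ← map_mul,
        ← map_mul, mul_inv_cancel, map_one] at h3
      exact h3
    obtain ⟨k, hk⟩ := hk
    have h3 : T ≤ I ⊔ (C ⊔ P) := Subgroup.relIndex_eq_one.1 (Nat.eq_one_of_dvd_coprimes
      (Nat.Coprime.pow_left k ((Nat.Prime.coprime_iff_not_dvd Fact.out).2 S.not_dvd_index))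
      ((Subgroup.relIndex_dvd_of_le_left T le_sup_left).trans (hk ▸ Subgroup.relIndex_dvd_index_of_normal I T))
      (Subgroup.index_dvd_of_le fun x hx => Subgroup.mem_sup_right (Subgroup.mem_sup_right ⟨x, hx, rfl⟩)))
    exact inv_mul_cancel_right g t ▸ Subgroup.mul_mem _ (h3 h2) (Subgroup.mem_sup_left ht)

end Dt

omit [Finite G] in
/-- the same subgroup inside two subgroups -/
theorem exists_iso {X X' : Subgroup G} (A : Subgroup X) (A' : Subgroup X') (h : A.map X.subtype = A'.map X'.subtype) :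
    ∃ e : A ≃* A', ∀ a, ((e a : X') : G) = ((a : X) : G) :=
  ⟨(A.equivMapOfInjective _ X.subtype_injective).trans ((MulEquiv.subgroupCongr h).trans
    (A'.equivMapOfInjective _ X'.subtype_injective).symm), fun _ =>
      congrArg Subtype.val ((A'.equivMapOfInjective _ X'.subtype_injective).apply_symm_apply _)⟩

end Pb

open Cfsg.Agent.TO Cfsg.Agent.TID.Red Cfsg.Agent.H649 Pb in
/-- **[SPL]** -/
theorem boxSPL {p : ℕ} [Fact p.Prime] {M : Ideal AlgInt} : BoxSPL p M := by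
  intro G _ _ N hN b Q θ h hz R h1 h2 hk η ⟨η₀, ⟨ξ, hξ, ho⟩, hη₀⟩ hη
  have := h.can.prime
  have h3 := Reg.ce_le_In h
  have h4 : N ⊓ Ce Q ≤ N ⊓ In Q θ := le_inf inf_le_left h3
  have h5 : (Ce (Q.subgroupOf N)).map N.subtype = N ⊓ Ce Q := by
    rw [show Ce (Q.subgroupOf N) = (Ce Q).subgroupOf N from Subgroup.ext fun _ => Cov.mem_Ce_sub h.le,
      Subgroup.subgroupOf_map_subtype, inf_comm]
  obtain ⟨e₁, he₁⟩ := exists_iso (Ce (Q.subgroupOf N)) ((N ⊓ Ce Q).subgroupOf R)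
    (h5.trans (Subgroup.map_subgroupOf_eq_of_le (h4.trans h1)).symm)
  obtain ⟨e₂, he₂⟩ := exists_iso ((Ce Q).subgroupOf (N ⊓ In Q θ)) ((N ⊓ Ce Q).subgroupOf R) (by
    rw [Subgroup.map_subgroupOf_eq_of_le (h4.trans h1), Subgroup.subgroupOf_map_subtype]
    exact le_antisymm (fun x hx => ⟨hx.2.1, hx.1⟩) (le_inf inf_le_right h4))
  have h6 : ∀ c, ((e₁.symm c : N) : G) = ((c : R) : G) := fun c => by rw [← he₁, e₁.apply_symm_apply]
  have h7 : ∀ c, ((e₂.symm c : (N ⊓ In Q θ : Subgroup G)) : G) = ((c : R) : G) := fun c => by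
    rw [← he₂, e₂.apply_symm_apply]
  have h8 : blkMap e₁ (Reg.rt M N Q θ) = blockOf M fun c : (N ⊓ Ce Q).subgroupOf R => θ (c : R) := by
    rw [blkMap_blockOf]
    simp only [h6]
  have nC : ((N ⊓ Ce Q).subgroupOf R).Normal := ⟨fun c hc g => ⟨hN.conj_mem _ hc.1 g,
    (Cov.conj_mem_Ce (Cov.In_le_normalizer (h2 g.2))).2 hc.2⟩⟩
  have nI : ((N ⊓ In Q θ).subgroupOf R).Normal := ⟨fun c hc g => ⟨hN.conj_mem _ hc.1 g,
    Subgroup.mul_mem _ (Subgroup.mul_mem _ (h2 g.2) hc.2) (Subgroup.inv_mem _ (h2 g.2))⟩⟩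
  have hr := isPBlock_blkMap (e := e₁) h.can.he
  have d : Dt p M (Q.subgroupOf R) ((N ⊓ Ce Q).subgroupOf R) (blkMap e₁ (Reg.rt M N Q θ)) := by
    refine ⟨h.can.hM, ⟨fun u hu g => ((h2 g.2).1 u).2 hu⟩, nC, fun u hu => ⟨h.le hu, Cov.ab_D h.le h.can hu⟩,
      fun c hc u hu => Subtype.ext (hc.2 u hu).symm, hr, ?_, fun g => ?_⟩
    · convert isDefectGroup_blkMap (e := e₁) h.can.hdef using 1
      ext x
      rw [Subgroup.mem_map_equiv]
      exact (h6 x ▸ Iff.rfl : ((x : R) : G) ∈ Q ↔ ((e₁.symm x : N) : G) ∈ Q)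
    · refine (stabilizesBlock_iff hr g).2 ⟨by rw [Subgroup.normalizer_eq_top]; trivial, ?_⟩
      rw [h8, blkMap_blockOf]
      exact congrArg _ (funext fun c => (congrArg θ (by
        rw [conjAut_symm_coe]
        simp)).trans ((Cov.mem_In.1 (Subgroup.inv_mem _ (h2 g.2))).2 (c : R)))
  obtain ⟨χ, hχ⟩ := d.main (I := (N ⊓ In Q θ).subgroupOf R) (Subgroup.comap_mono h4) (by
      rw [Subgroup.relIndex_subgroupOf h1]
      have h9 := (boxCAN1 N p M b _ _ h.can).idx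
      rwa [← Subgroup.relIndex_map_map_of_injective _ _ N.subtype_injective, h5,
        show In (Q.subgroupOf N) (fun n : N => θ n) = (In Q θ).subgroupOf N from
          Subgroup.ext fun n => (Reg.mem_In_sub h.le h.zero n).symm, Subgroup.subgroupOf_map_subtype,
        inf_comm (In Q θ)] at h9)
    (fun u hu h9 => Subtype.ext (Subgroup.mem_bot.1 (hz.le ⟨hu, fun t ht =>
      congrArg Subtype.val (h9 ⟨t, h1 ⟨ht.2, ht.1⟩⟩ ⟨ht.2, ht.1⟩)⟩)))
    (by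
      rwa [show (N ⊓ In Q θ).subgroupOf R = N.subgroupOf R from Subgroup.ext fun x =>
        ⟨fun hx => hx.1, fun hx => ⟨hx, h2 x.2⟩⟩])
    (irrMap (Subgroup.subgroupOfEquivOfLe h1).symm η₀)
    (fun g n => (congrFun hη₀ _).trans ((hη g g.2 n n.2).trans (congrFun hη₀ ⟨n, n.2⟩).symm))
    (ξ := irrMap e₂ ξ) (by
      have h9 := (irrMap_mem_blkMap (e := e₂)).2 hξ
      rw [blkMap_blockOf] at h9
      simpa only [h8, h7] using h9)
    (Ov.congr (ι := ((Ce Q).subgroupOf (N ⊓ In Q θ)).subtype.comp e₂.symm.toMonoidHom)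
      (fun c => congrArg η₀.1 (Subtype.ext (h7 c).symm)) ((ov_src_iff e₂.symm (fun _ => rfl) _ ξ).2 ho))
  refine ⟨extendByZero R χ.1, ?_, fun n => ?_⟩
  · rw [Cov.ext_coe]
    exact χ.2
  · exact (Characters.Core.extendByZero_of_mem R _ (h1 n.2)).trans
      ((hχ ⟨⟨n, h1 n.2⟩, n.2⟩).trans (congrFun hη₀ n))

end Cfsg.Agent.BH
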