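import Cfsg.Agent.BH.Pb.PB
import Cfsg.Agent.H692.Cliff
import Cfsg.Agent.H595.Count

/-!
# BH (S4524): tools for the box SPL (helper94)

* `exists_lin` : an invariant linear character of `Q` extends to `D` (a norm over `I / C`);
* `exists_twist'` : the star construction on a normal subgroup of the defect group;
* `ext_of_compl` : extension to the whole group from a complement modulo `C`.
-/

set_option autoImplicit false
set_option linter.unusedSectionVars false

namespace Cfsg.Agent.BH.Pb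

open Cfsg Cfsg.Agent.KM.BK Cfsg.Agent.KM.Mu Cfsg.Agent.Characters.Core Cfsg.Agent.Blocks Cfsg.Agent.TID.Red

universe u

section grp

variable {G : Type u} [Group G] {Q C I D : Subgroup G} [hQ : Q.Normal] [C.Normal] [I.Normal]

/-- representatives which are permuted by `D` modulo `Q` -/
theorem exists_sec (h : ∀ t : G, ∃ s : G, (s : G ⧸ C) = t ∧
      ∀ d ∈ D, ((d * t * d⁻¹ : G) : G ⧸ C) = t → s⁻¹ * (d * s * d⁻¹) ∈ Q) :
    ∃ t : G ⧸ C → G, (∀ x, (t x : G ⧸ C) = x) ∧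
      ∀ d ∈ D, ∀ x y, (d : G ⧸ C) * x * (d : G ⧸ C)⁻¹ = y → (t y)⁻¹ * (d * t x * d⁻¹) ∈ Q := by
  choose s hs1 hs2 using h
  let S : Setoid (G ⧸ C) :=
    { r := fun x y => ∃ d ∈ D, (d : G ⧸ C) * x * (d : G ⧸ C)⁻¹ = y
      iseqv := ⟨fun x => ⟨1, D.one_mem, by simp⟩, fun ⟨d, hd, e⟩ => ⟨d⁻¹, D.inv_mem hd, by
        rw [← e, QuotientGroup.mk_inv]; group⟩, fun ⟨d, hd, e⟩ ⟨d', hd', e'⟩ => ⟨d' * d, D.mul_mem hd' hd, by
        rw [← e', ← e, QuotientGroup.mk_mul]; group⟩⟩ }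
  choose e he1 he2 using fun x : G ⧸ C => (Quotient.mk_out (s := S) x : S.r _ _)
  refine ⟨fun x => e x * s (Quotient.mk S x).out.out * (e x)⁻¹, fun x => ?_, fun d hd x y hy => ?_⟩
  · rw [QuotientGroup.mk_mul, QuotientGroup.mk_mul, QuotientGroup.mk_inv, hs1, QuotientGroup.out_eq', he2]
  · have h1 : Quotient.mk S y = Quotient.mk S x := (Quotient.sound (s := S) ⟨d, hd, hy⟩).symm
    have h2 := he2 y
    rw [h1, ← hy] at h2
    nth_rw 4 [← he2 x] at h2
    rw [hy] at h2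
    have h4 := hs2 (Quotient.mk S x).out.out ((e y)⁻¹ * d * e x)
      (D.mul_mem (D.mul_mem (D.inv_mem (he1 y)) hd) (he1 x)) (by
        simp only [QuotientGroup.mk_mul, QuotientGroup.mk_inv, QuotientGroup.out_eq']
        calc _ = (e y : G ⧸ C)⁻¹ * (d * (e x * (Quotient.mk S x).out * (e x : G ⧸ C)⁻¹) * (d : G ⧸ C)⁻¹) * e y := by
              group
          _ = _ := by rw [← h2]; group)
    have h5 := hQ.conj_mem _ h4 (e y)
    simp only [h1]
    convert h5 using 1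
    group

/-- an invariant linear character of `Q` extends to `D` -/
theorem exists_lin [Finite G] {p : ℕ} [Fact p.Prime] (hp : IsPGroup p Q) (hQD : Q ≤ D) (hQC : Q ≤ C)
    (hc : ∀ c ∈ C, ∀ u ∈ Q, c * u = u * c) (hi : ¬ p ∣ C.relIndex I)
    (hz : ∀ u ∈ Q, (∀ t ∈ I, t * u = u * t) → u = 1)
    (h : ∀ t : G, ∃ s : G, (s : G ⧸ C) = t ∧
      ∀ d ∈ D, ((d * t * d⁻¹ : G) : G ⧸ C) = t → s⁻¹ * (d * s * d⁻¹) ∈ Q)
    (μ : Q →* ℂˣ) (hμ : ∀ d ∈ D, ∀ u, μ (MulAut.conjNormal d u) = μ u) :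
    ∃ l : D →* ℂˣ, ∀ u : Q, l ⟨u, hQD u.2⟩ = μ u := by
  obtain ⟨t, ht1, ht2⟩ := exists_sec h
  let X := I.map (QuotientGroup.mk' C)
  have : X.Normal := Subgroup.Normal.map inferInstance _ (QuotientGroup.mk'_surjective C)
  let _ := Fintype.ofFinite X
  let σ : D → MulAut X := fun d => MulAut.conjNormal ((d : G) : G ⧸ C)
  let δ : D → X → Q := fun d x => ⟨_, ht2 d d.2 x (σ d x) rfl⟩
  let Λ : D →* ℂˣ := MonoidHom.mk' (fun d => ∏ x, μ (δ d x)) fun d e => by
    rw [← (σ e).toEquiv.prod_comp fun x => μ (δ d x), ← Finset.prod_mul_distrib]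
    refine Finset.prod_congr rfl fun x _ => ?_
    rw [← hμ d d.2 (δ e x), ← map_mul]
    refine congrArg μ (Subtype.ext ?_)
    have h1 : σ (d * e) x = σ d (σ e x) := by
      simp only [σ, Subgroup.coe_mul, QuotientGroup.mk_mul, map_mul, MulAut.mul_apply]
    change (t (σ (d * e) x))⁻¹ * (d * e * t x * (d * e : G)⁻¹) =
      (t (σ d (σ e x)))⁻¹ * (d * t (σ e x) * (d : G)⁻¹) * (d * ((t (σ e x))⁻¹ * (e * t x * (e : G)⁻¹)) * (d : G)⁻¹)
    rw [h1]
    group
  let _ : CommGroup Q := { (inferInstance : Group Q) with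
    mul_comm := fun a b => Subtype.ext (hc _ (hQC a.2) _ b.2) }
  let φ : G ⧸ C →* MulAut Q := QuotientGroup.lift C MulAut.conjNormal fun c hcC =>
    MulEquiv.ext fun u => Subtype.ext (by
      change c * u * c⁻¹ = u
      rw [hc c hcC u u.2, mul_inv_cancel_right])
  have hN : ∀ u : Q, ∏ x : X, φ (x : G ⧸ C)⁻¹ u = 1 := fun u => Subtype.ext (hz _ (Subtype.prop _) fun g hg => by
    have h1 : φ g (∏ x : X, φ (x : G ⧸ C)⁻¹ u) = ∏ x : X, φ (x : G ⧸ C)⁻¹ u := by
      rw [map_prod, ← Equiv.prod_comp (Equiv.mulRight (⟨g, g, hg, rfl⟩ : X))]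
      refine Finset.prod_congr rfl fun x _ => ?_
      rw [← MulAut.mul_apply, ← map_mul]
      congr 2
      change (g : G ⧸ C) * ((x : G ⧸ C) * (g : G ⧸ C))⁻¹ = _
      group
    exact mul_inv_eq_iff_eq_mul.1 (congrArg Subtype.val h1))
  have hΛ : ∀ u : Q, Λ ⟨u, hQD u.2⟩ = μ u⁻¹ ^ Fintype.card X := fun u => by
    have h1 : ∀ x, δ ⟨u, hQD u.2⟩ x = φ (x : G ⧸ C)⁻¹ u * u⁻¹ := fun x => Subtype.ext (by
      have h2 : σ ⟨u, hQD u.2⟩ = 1 := by
        simp only [σ, (QuotientGroup.eq_one_iff _).2 (hQC u.2), map_one]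
      conv_rhs => rw [← ht1 x, ← QuotientGroup.mk_inv]
      change (t (σ ⟨u, hQD u.2⟩ x))⁻¹ * (u * t x * (u : G)⁻¹) = (t x)⁻¹ * u * (t x)⁻¹⁻¹ * (u : G)⁻¹
      rw [h2, MulAut.one_apply]
      group)
    change ∏ x, μ (δ _ x) = _
    rw [← map_prod, Finset.prod_congr rfl fun x _ => h1 x, Finset.prod_mul_distrib, hN, one_mul, Finset.prod_const,
      map_pow, Finset.card_univ]
  obtain ⟨n, hn⟩ := IsPGroup.iff_card.1 hp
  have hX : Fintype.card X = C.relIndex I := by
    rw [← Nat.card_eq_fintype_card, ← Subgroup.relIndex_ker, QuotientGroup.ker_mk']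
  obtain ⟨k, hk⟩ := exists_pow_eq_self_of_coprime (x := μ) (n := Fintype.card X) (Nat.Coprime.coprime_dvd_right
    (orderOf_dvd_of_pow_eq_one (MonoidHom.ext fun x => by
      rw [MonoidHom.pow_apply, ← map_pow, pow_card_eq_one', map_one, MonoidHom.one_apply]))
    (by rw [hn, hX]; exact Nat.Coprime.pow_right n ((Nat.Prime.coprime_iff_not_dvd Fact.out).2 hi).symm))
  refine ⟨(Λ ^ k)⁻¹, fun u => ?_⟩
  rw [MonoidHom.inv_apply, MonoidHom.pow_apply, hΛ, ← MonoidHom.pow_apply, ← MonoidHom.pow_apply, hk, map_inv, inv_inv]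

end grp

section star

variable {p : ℕ} [Fact p.Prime] {M : Ideal AlgInt} {G : Type u} [Group G] [Finite G]
  {B : Set (IrrCharacter G)} {D : Subgroup G}

open Cfsg.Agent.H649 Cfsg.Agent.H651 Cfsg.Agent.H650 in
/-- the value of the star construction at an element on whose class the weight is constant -/
theorem star_apply_inv {a : BrauerPairIdx G} (hM : IsPModular p M) (hmax : IsMaximalBrauerPair p M B a.1 a.2)
    {η : G → ℂ} (hη : IsStable p M a η) {χ : IrrCharacter G} (hχ : χ ∈ B) {u : G} (hu : u ∈ a.1)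
    (huc : ∀ g : G, η (g * u * g⁻¹) = η u) : star p M a η (χ : G → ℂ) u = η u * (χ : G → ℂ) u := by
  have hord : ∃ k : ℕ, orderOf u = p ^ k := by
    obtain ⟨k, hk⟩ := IsPGroup.iff_orderOf.1 hmax.1.1.1 ⟨u, hu⟩
    exact ⟨k, by rw [← hk, Subgroup.orderOf_mk]⟩
  have hc := Basic.irr_isClassFunction χ.2
  have h1 := starW_apply hM (etaW p M a η) hc (u := u) hord not_dvd_one
  have h2 := starW_apply hM (fun _ _ => η u) hc (u := u) hord not_dvd_one
  rw [Subgroup.coe_one, mul_one] at h1 h2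
  have h3 : starW p M (etaW p M a η) (χ : G → ℂ) u = starW p M (fun _ _ => η u) (χ : G → ℂ) u := by
    rw [h1, h2]
    refine wSum_congr hM fun f hf => ?_
    by_cases h4 : IsBrauerPairOf p M B (Subgroup.zpowers u) f
    · left
      obtain ⟨x, -, hx⟩ := exists_etaW_eq hM hmax h4
      rw [hx _ hη, huc]
    · exact Or.inr (blockPart_secFun_eq_zero hM hmax.1.2.1 hχ hord hf h4 not_dvd_one)
  have h5 := congrFun (star_const hM hmax (η u) hχ) u
  have h6 : star p M a (fun _ => η u) (χ : G → ℂ) = starW p M (fun _ _ => η u) (χ : G → ℂ) := by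
    refine starW_congr_of_mem hM hmax.1.2.1 hχ fun v _ f hf => ?_
    obtain ⟨x, -, hx⟩ := exists_etaW_eq hM hmax hf
    exact hx _ (isStable_const (η u))
  rw [h6] at h5
  exact h3.trans h5

open Cfsg.Agent.H650 in
/-- the twist by a linear character of the defect group which is invariant on a normal subgroup -/
theorem exists_twist' (hM : IsPModular p M) (hB : IsPBlock M B) (hD : IsDefectGroup p M B D) (μ : D →* ℂˣ)
    {Q : Subgroup G} [hQ : Q.Normal] (hQD : Q ≤ D)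
    (hμ : ∀ (g u : G) (hu : u ∈ Q), μ ⟨g * u * g⁻¹, hQD (hQ.conj_mem u hu g)⟩ = μ ⟨u, hQD hu⟩)
    {χ : IrrCharacter G} (hχ : χ ∈ B) : ∃ χ' ∈ B, (χ' : G → ℂ) 1 = (χ : G → ℂ) 1 ∧
      ∀ (u : G) (hu : u ∈ Q), (χ' : G → ℂ) u = μ ⟨u, hQD hu⟩ * (χ : G → ℂ) u := by
  have := Local.isPrime_of_isPModular hM
  have := Fintype.ofFinite G
  have hp := H592.Defect.isPGroup_of_isDefectGroup hD
  obtain ⟨e, he⟩ := H644.exists_pair_of_le_isDefectGroup hM hB hD le_rfl
  have hmax := H644.isMaximalBrauerPair_of_isDefectGroup hM he hD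
  obtain ⟨F, hF, hs⟩ := S4677.result p M hM B D e hmax
  obtain ⟨m, τ, hm, h1, h2⟩ := H767.FusTransfer.exists_transfer hp hs μ
  obtain ⟨n, hn⟩ := IsPGroup.iff_card.1 hp
  obtain ⟨k, hk⟩ := exists_pow_eq_self_of_coprime (x := μ) (n := m) (Nat.Coprime.coprime_dvd_right
    (orderOf_dvd_of_pow_eq_one (MonoidHom.ext fun x => by
      rw [MonoidHom.pow_apply, ← map_pow, pow_card_eq_one', map_one, MonoidHom.one_apply]))
    (by rw [hn]; exact Nat.Coprime.pow_right n ((Nat.Prime.coprime_iff_not_dvd Fact.out).2 hm).symm))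
  have hl : τ ^ k ∈ Lam F := fun x hx => by
    obtain ⟨y, hy, e⟩ := H767.FusTransfer.focal_le τ h1 hx
    rw [MonoidHom.pow_apply, ← show y = x from Subtype.ext e, MonoidHom.mem_ker.1 hy, one_pow]
  have d := dat_of hM hmax hF
  have key : ∀ (u : G) (hu : u ∈ Q), (τ ^ k) ⟨u, hQD hu⟩ = μ ⟨u, hQD hu⟩ := fun u hu => by
    change τ _ ^ k = _
    rw [h2 ⟨u, hQD hu⟩ fun y P φ hφ hy hyz => ?_, ← MonoidHom.pow_apply, ← MonoidHom.pow_apply, hk]
    obtain ⟨-, g, hg, -⟩ := (hF.2 P φ).1 hφ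
    obtain ⟨j, rfl⟩ := hyz
    exact (congrArg μ (Subtype.ext (hg _))).trans (hμ g _ (Q.zpow_mem hu j))
  refine ⟨d.act ⟨_, hl⟩ χ hχ, d.act_mem _ χ hχ, d.act_apply_reg _ χ hχ not_dvd_one, fun u hu => ?_⟩
  rw [d.act_coe, star_apply_inv hM (a := ⟨D, e⟩) hmax (isStable_ext0 hF hl) hχ (hQD hu) fun g => ?_,
    ext0_of_mem _ (hQD hu), key u hu]
  rw [ext0_of_mem _ (hQD hu), ext0_of_mem _ (hQD (hQ.conj_mem u hu g)), key u hu, key _ (hQ.conj_mem u hu g), hμ g u hu]

end star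

section chr

/-- inner products of functions supported on a subgroup -/
theorem inner_supp {K A : Type u} [Group K] [Group A] [Fintype K] [Fintype A] (ι : K →* A)
    (hι : Function.Injective ι) {f : A → ℂ} (hf : ∀ a, a ∉ ι.range → f a = 0) (g : A → ℂ) :
    (Nat.card A : ℂ) * classInner f g = Nat.card K * classInner (fun k => f (ι k)) fun k => g (ι k) := by
  rw [classInner_def, classInner_def, mul_inv_cancel_left₀ card_ne_zero_complex,
    mul_inv_cancel_left₀ card_ne_zero_complex]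
  exact (Fintype.sum_of_injective ι hι _ _ (fun a ha => by rw [hf a ha, zero_mul]) fun _ => rfl).symm

variable {p : ℕ} [Fact p.Prime] {G : Type u} [Group G] [Finite G] {C I Y : Subgroup G} [C.Normal] [hI : I.Normal]

/-- extension from a complement -/
theorem ext_of_compl (hCI : C ≤ I) (hCY : C ≤ Y) (h1 : I ⊓ Y ≤ C) (h2 : I ⊔ Y = ⊤) (hi : ¬ p ∣ C.relIndex I)
    (hk : ∃ k, I.index = p ^ k) (η : IrrCharacter I) (hη : ∀ g n, (η : I → ℂ) (MulAut.conjNormal g n) = (η : I → ℂ) n)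
    (ξ : IrrCharacter C) (ho : Ov (Subgroup.inclusion hCI) (η : I → ℂ) (ξ : C → ℂ)) (ψ : IrrCharacter Y)
    (hψ : ∀ c : C, (ψ : Y → ℂ) ⟨c, hCY c.2⟩ = (ξ : C → ℂ) c) :
    ∃ χ : IrrCharacter G, ∀ n : I, (χ : G → ℂ) n = (η : I → ℂ) n := by
  have := finite_irr (G := G)
  let _ := Fintype.ofFinite (IrrCharacter G)
  let _ := Fintype.ofFinite G
  let _ := Fintype.ofFinite I
  let _ := Fintype.ofFinite Y
  let _ := Fintype.ofFinite C
  let _ := Fintype.ofFinite (C.subgroupOf I)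
  have hF : IsClassFunction G (extendByZero I (η : I → ℂ)) := fun x g => by
    by_cases hx : x ∈ I
    · rw [extendByZero_of_mem _ _ hx, extendByZero_of_mem _ _ (hI.conj_mem x hx g)]
      exact hη g ⟨x, hx⟩
    · rw [extendByZero_of_notMem _ _ hx, extendByZero_of_notMem _ _ fun h => hx (by simpa using hI.mem_comm h)]
  choose a ha using fun χ : IrrCharacter G =>
    classInner_isNat (isCharacter_comp I.subtype (isIrr_isCharacter χ.2)) (isIrr_isCharacter η.2)
  choose m hm using fun χ : IrrCharacter G =>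
    classInner_isNat (isCharacter_comp Y.subtype (isIrr_isCharacter χ.2)) (isIrr_isCharacter ψ.2)
  obtain ⟨e, he⟩ := classInner_isNat (isCharacter_comp (Subgroup.inclusion hCI) (isIrr_isCharacter η.2))
    (isIrr_isCharacter ξ.2)
  have h3 : ∀ χ : IrrCharacter G, (Nat.card G : ℂ) * classInner (extendByZero I (η : I → ℂ)) (χ : G → ℂ) =
      Nat.card I * a χ := fun χ => by
    rw [inner_supp I.subtype I.subtype_injective fun x hx => extendByZero_of_notMem _ _ (by simpa using hx),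
      ← classInner_conj_symm, ← Complex.conj_natCast (a χ), ← ha]
    congr 3
    exact funext fun n => extendByZero_of_mem _ _ n.2
  have h4 : (Nat.card Y : ℂ) * classInner (fun y : Y => extendByZero I (η : I → ℂ) y) (ψ : Y → ℂ) =
      Nat.card C * e := by
    rw [inner_supp (Subgroup.inclusion hCY) (Subgroup.inclusion_injective hCY) fun x hx =>
      extendByZero_of_notMem _ _ fun h => hx ⟨⟨x, h1 ⟨h, x.2⟩⟩, rfl⟩, ← he]
    congr 2
    · exact funext fun n => extendByZero_of_mem _ _ (hCI n.2)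
    · exact funext hψ
  have h5 : (Nat.card G : ℂ) * classInner (fun y : Y => extendByZero I (η : I → ℂ) y) (ψ : Y → ℂ) =
      Nat.card I * (∑ χ, a χ * m χ : ℕ) := by
    have h6 : (fun y : Y => extendByZero I (η : I → ℂ) y) =
        ∑ χ : IrrCharacter G, classInner (extendByZero I (η : I → ℂ)) (χ : G → ℂ) • ((χ : G → ℂ) ∘ Y.subtype) :=
      funext fun y => by
        rw [Finset.sum_apply]
        exact (congrFun (classFunction_eq_sum hF) y).trans (Finset.sum_apply _ _ _)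
    rw [h6, classInner_sum_left, Nat.cast_sum, Finset.mul_sum, Finset.mul_sum]
    refine Finset.sum_congr rfl fun χ _ => ?_
    rw [classInner_smul_left, ← mul_assoc, h3, hm, Nat.cast_mul, mul_assoc]
  have h6 : Nat.card C * Nat.card G = Nat.card I * Nat.card Y := by
    rw [← card_inf_mul Y I, ← I.card_mul_index, ← Subgroup.relIndex_top_right, ← h2, Subgroup.relIndex_sup_left,
      show Y ⊓ I = C from le_antisymm (inf_comm Y I ▸ h1) (le_inf hCY hCI)]
    ring
  have h7 : e = ∑ χ, a χ * m χ := by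
    have h8 : ((Nat.card C * Nat.card G : ℕ) : ℂ) * e = (Nat.card I * Nat.card Y : ℕ) * (∑ χ, a χ * m χ : ℕ) := by
      push_cast at h5 ⊢
      linear_combination (Nat.card Y : ℂ) * h5 - (Nat.card G : ℂ) * h4
    rw [h6] at h8
    exact_mod_cast mul_left_cancel₀ (Nat.cast_ne_zero.2 (Nat.mul_pos Nat.card_pos Nat.card_pos).ne') h8
  have h8 : ¬ p ∣ e := fun h => hi (h.trans ((Dvd.intro_left _ rfl).trans (H692.Cliff.degree_formula_nat
    (C.subgroupOf I) (H592.Transport.tr (Subgroup.subgroupOfEquivOfLe hCI) ξ).2 η.2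
      (fun h0 => (ov_iff _ _ _).1 ho (he.trans (by rw [h0, Nat.cast_zero])))
      ((Characters.Clifford.classInner_comp_mulEquiv (Subgroup.subgroupOfEquivOfLe hCI)
        ((η : I → ℂ) ∘ Subgroup.inclusion hCI) (ξ : C → ℂ)).trans he)).2))
  rw [h7] at h8
  obtain ⟨χ, hχ⟩ : ∃ χ, ¬ p ∣ a χ := by
    by_contra! h
    exact h8 (Finset.dvd_sum fun χ _ => (h χ).mul_right _)
  have h0 : a χ ≠ 0 := fun h => hχ (h ▸ dvd_zero p)
  obtain ⟨h9, h10⟩ := H692.Cliff.degree_formula_nat I η.2 χ.2 h0 (ha χ)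
  obtain ⟨k, hk⟩ := hk
  have h11 : (H692.Cliff.stab I (η : I → ℂ)).index * a χ = 1 := by
    rw [show H692.Cliff.stab I (η : I → ℂ) = ⊤ from eq_top_iff.2 fun g _ => hη g, Subgroup.index_top, one_mul] at h10 ⊢
    exact Nat.Coprime.eq_one_of_dvd
      (Nat.Coprime.pow_right k ((Nat.Prime.coprime_iff_not_dvd Fact.out).2 hχ).symm) (hk ▸ h10)
  refine ⟨χ, congrFun (H595.Count.eq_of_degree (isCharacter_comp I.subtype (isIrr_isCharacter χ.2)) η.2
    ((ha χ).trans_ne (Nat.cast_ne_zero.2 h0)) ?_)⟩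
  rw [h11, one_mul] at h9
  rw [Basic.irr_one_eq_charDegree η.2, ← h9]
  exact (Basic.irr_one_eq_charDegree χ.2 :)

end chr

end Cfsg.Agent.BH.Pb
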